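import Cfsg.Agent.H30.RealFi
import Cfsg.Agent.H702.SieveTools
import Cfsg.Agent.SmallSimple.DihedralNormalizer
import Cfsg.Agent.H253.TwoComm.Cent
import Cfsg.Agent.SmallSimple.ClassDvd
import Cfsg.Agent.Prune
set_option linter.all false
prune_inst 0x7f00000000000000000000000000000000000000000000000000000000000000000000000000000000000000000000000000000000000000000000000000000000000000000000000000000000000000003fffffffffffffffffffffffffffbeffbdffffffff
open scoped Cfsg.Agent.FastGrp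

/-!
# REALB0: the rows `Fi₂₂`, `Fi₂₃`, `Fi₂₄'` (helper30), conclusion with the sieve

* `Exc.congr_P` : `v(g) ≡ v(1)` mod `p` for `p`-regular `g` centralizing the Sylow subgroup;
* `Exc.abs_le`, `Exc.ne_one`: bounds;
* `fi22`, `fi23`, `fi24`: the rows.
-/

set_option autoImplicit false
set_option maxRecDepth 10000

namespace Cfsg.Agent.H30.RealFi

open Subgroup Cfsg Cfsg.Agent.H702.Sieve
open Cfsg.Agent.MTwelve.BlockData
open Cfsg.Agent.H722.RealP (HasReal)

universe u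

section

variable {p : ℕ} [hp : Fact p.Prime] {S : Type u} [Group S] [Finite S] (E : Exc p S)
include E

/-- `v(g) ≡ v(1)` modulo `p` for the `p`-regular elements of the centralizer of the Sylow subgroup. -/
theorem congr_P {g : S} (hg : ¬ p ∣ orderOf g) (hgP : g ∈ centralizer (E.P : Set S)) : (p : ℤ) ∣ E.v g - E.v 1 := by
  obtain ⟨M, hM⟩ := Blocks.ExistsModular.exists_isPModular hp.out
  have hprime := Blocks.Local.isPrime_of_isPModular hM
  obtain ⟨Θ, hΘ⟩ := E.exists_mem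
  obtain ⟨x, hxP, hx1⟩ : ∃ y ∈ E.P, y ≠ 1 := by
    have : Nontrivial E.P := by
      rw [← Finite.one_lt_card_iff_nontrivial, E.card_P]
      exact hp.out.one_lt
    obtain ⟨y, hy⟩ := exists_ne (1 : E.P)
    exact ⟨y, y.2, fun h => hy (Subtype.ext h)⟩
  have hxo : orderOf x = p := by
    have h1 : orderOf x ∣ p := by
      rw [← E.card_P]
      exact Subgroup.orderOf_dvd_natCard _ hxP
    rcases (Nat.dvd_prime hp.out).1 h1 with h | h
    · exact absurd (orderOf_eq_one_iff.1 h) hx1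
    · exact h
  have hcomm : Commute x g := by
    have := mem_centralizer_iff.1 hgP x hxP
    exact this
  have h1 : ∀ χ ∈ E.B.NE, MemLocalIdeal M ((E.B.ε χ : ℂ) - (χ : S → ℂ) g) := by
    intro χ hχ
    have h2 := CharactersDeep.ModCongr.memLocalIdeal_character_sub hM χ.2 (x * g) x
      ⟨g, rfl, hcomm, ⟨1, by rw [hxo, pow_one]⟩, hg⟩
    rwa [E.B.apply_NE χ hχ x hxP hx1 g hgP hg, inv_mul_cancel_left] at h2
  have h2 : MemLocalIdeal M (∑ χ ∈ E.B.NE, (E.B.ε χ : ℂ) * ((E.B.ε χ : ℂ) - (χ : S → ℂ) g)) :=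
    Blocks.Local.memLocalIdeal_sum fun χ hχ => by
      refine Blocks.Local.memLocalIdeal_mul_left ?_ (h1 χ hχ)
      exact Blocks.Local.memLocalRing_of_isIntegral isIntegral_algebraMap
  have h3 : ∑ χ ∈ E.B.NE, (E.B.ε χ : ℂ) * ((E.B.ε χ : ℂ) - (χ : S → ℂ) g) = ((E.e - E.B.d * E.v g : ℤ) : ℂ) := by
    have h4 : ∀ χ ∈ E.B.NE, (E.B.ε χ : ℂ) * ((E.B.ε χ : ℂ) - (χ : S → ℂ) g) = 1 - (E.B.ε χ : ℂ) * (χ : S → ℂ) g := by
      intro χ hχ
      rw [mul_sub]
      congr 1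
      rcases E.B.ε_eq χ hχ with h | h <;> rw [h] <;> norm_num
    rw [Finset.sum_congr rfl h4, Finset.sum_sub_distrib, E.B.rel Θ hΘ g hg, E.apply_X Θ hΘ g hg]
    simp [E.B.card_NE]
  rw [h3, Blocks.Local.memLocalIdeal_intCast_iff hM] at h2
  have h5 := E.dvd_sub
  have h6 : E.v g - E.v 1 = -(E.B.d * (E.e - E.B.d * E.v g)) - (E.v 1 - E.e * E.B.d) := by
    have h7 : E.B.d * E.B.d = 1 := by rcases E.B.d_eq with h | h <;> rw [h] <;> norm_num
    linear_combination (-E.v g) * h7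
  rw [h6]
  exact dvd_sub ((dvd_neg.2 (h2.mul_left _))) h5


theorem abs_le {g : S} (hg : ¬ p ∣ orderOf g) : |E.v g| ≤ E.v 1 := by
  obtain ⟨Θ, hΘ⟩ := E.exists_mem
  have h1 := Cfsg.Agent.H253.TC.norm_le_one Θ.2 g
  rw [E.apply_X Θ hΘ g hg, E.apply_X Θ hΘ 1 Exc.not_dvd_one, Complex.norm_intCast, Complex.norm_intCast] at h1
  have h2 : |E.v g| ≤ |E.v 1| := by exact_mod_cast h1
  rwa [abs_of_pos E.v_one_pos] at h2

theorem ne_one [IsSimpleGroup S] {g : S} (hg : ¬ p ∣ orderOf g) (hg1 : g ≠ 1) : E.v g ≠ E.v 1 := by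
  intro h
  obtain ⟨Θ, hΘ⟩ := E.exists_mem
  have := Fintype.ofFinite S
  refine hg1 (Cfsg.Agent.SmallSimple.DihedralNormalizer.eq_one_of_apply_eq Θ.2 ?_ (s := g) ?_)
  · intro h1
    apply E.triv_notMem
    have h2 : Θ = triv S := Subtype.ext (by rw [h1]; rfl)
    rwa [← h2]
  · rw [E.apply_X Θ hΘ g hg, E.apply_X Θ hΘ 1 Exc.not_dvd_one, h]

end

/-! ### arithmetic -/

theorem coprime_of {x q : ℕ} (hq : q.Prime) (h : ¬ q ∣ x) (n : ℕ) : Nat.Coprime x (q ^ n) :=
  (((Nat.Prime.coprime_iff_not_dvd hq).2 h).symm).pow_right n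

theorem arith22 {x : ℕ} (h1 : x ∣ 64561751654400) (h2 : ¬ 2 ∣ x) (h3 : ¬ 3 ^ 9 ∣ x) (h5 : ¬ 5 ^ 2 ∣ x) (h7 : ¬ 7 ∣ x)
    (h13 : ¬ 13 ∣ x) (h11 : x % 11 = 5 ∨ x % 11 = 6) : x = 5 ∨ x = 27 ∨ x = 1215 ∨ x = 6561 := by
  have hc : Nat.Coprime x (2 ^ 17 * 7 ^ 1 * 11 ^ 1 * 13 ^ 1) :=
    (((coprime_of (by norm_num) h2 17).mul_right (coprime_of (by norm_num) h7 1)).mul_right
      (coprime_of (by norm_num) (by (clear * - h11; omega)) 1)).mul_right (coprime_of (by norm_num) h13 1)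
  have h : x ∣ 3 ^ 9 * 5 ^ 2 := by
    refine hc.dvd_of_dvd_mul_left ?_
    rwa [show 2 ^ 17 * 7 ^ 1 * 11 ^ 1 * 13 ^ 1 * (3 ^ 9 * 5 ^ 2) = 64561751654400 by norm_num]
  obtain ⟨y, z, hy, hz, rfl⟩ := (Nat.dvd_mul).1 h
  obtain ⟨a, ha, rfl⟩ := (Nat.dvd_prime_pow (by norm_num)).1 hy
  obtain ⟨b, hb, rfl⟩ := (Nat.dvd_prime_pow (by norm_num)).1 hz
  have ha' : a ≠ 9 := fun h => h3 (h ▸ Dvd.intro _ rfl)
  have hb' : b ≠ 2 := fun h => h5 (h ▸ Dvd.intro_left _ rfl)
  interval_cases a <;> interval_cases b <;> simp_all only [_root_.zero_le, _root_.pow_zero, _root_.Nat.reducePow, _root_.isUnit_iff_eq_one, _root_.IsUnit.dvd, _root_.ne_eq, _root_.OfNat.zero_ne_ofNat, _root_.not_false_eq_true, _root_.mul_one, _root_.Nat.dvd_one, _root_.OfNat.ofNat_ne_one, _root_.Nat.one_mod, _root_.OfNat.one_ne_ofNat, _root_.or_self, _root_.Nat.one_le_ofNat, _root_.pow_one, _root_.Nat.reduceDvd, _root_.one_mul, _root_.Nat.reduceMod, _root_.Nat.reduceEqDiff,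 _root_.or_false, _root_.Nat.reduceMul, _root_.Std.le_refl, _root_.dvd_refl, _root_.not_true_eq_false, _root_.Nat.reduceLeDiff, _root_.or_true]

theorem arith24 {x : ℕ} (h1 : x ∣ 1255205709190661721292800) (h2 : ¬ 2 ∣ x) (h3 : ¬ 3 ^ 16 ∣ x) (h5 : ¬ 5 ^ 2 ∣ x)
    (h7 : ¬ 7 ^ 3 ∣ x) (h11 : ¬ 11 ∣ x) (h13 : ¬ 13 ∣ x) (h17 : ¬ 17 ∣ x) (h29 : ¬ 29 ∣ x)
    (h23 : x % 23 = 11 ∨ x % 23 = 12) (k17 : x % 17 = 1 ∨ x % 17 = 16) (k29 : x % 29 = 1 ∨ x % 29 = 28 ∨ x % 29 = 3 ∨ x % 29 = 26) :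
    False := by
  have hc : Nat.Coprime x (2 ^ 21 * 11 ^ 1 * 13 ^ 1 * 17 ^ 1 * 23 ^ 1 * 29 ^ 1) :=
    (((((coprime_of (by norm_num) h2 21).mul_right (coprime_of (by norm_num) h11 1)).mul_right
      (coprime_of (by norm_num) h13 1)).mul_right (coprime_of (by norm_num) h17 1)).mul_right
      (coprime_of (by norm_num) (by (clear * - h23; omega)) 1)).mul_right (coprime_of (by norm_num) h29 1)
  have h : x ∣ 3 ^ 16 * 5 ^ 2 * 7 ^ 3 := by
    refine hc.dvd_of_dvd_mul_left ?_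
    rwa [show 2 ^ 21 * 11 ^ 1 * 13 ^ 1 * 17 ^ 1 * 23 ^ 1 * 29 ^ 1 * (3 ^ 16 * 5 ^ 2 * 7 ^ 3) =
      1255205709190661721292800 by norm_num]
  obtain ⟨y', w, hy', hw, rfl⟩ := (Nat.dvd_mul).1 h
  obtain ⟨y, z, hy, hz, rfl⟩ := (Nat.dvd_mul).1 hy'
  obtain ⟨a, ha, rfl⟩ := (Nat.dvd_prime_pow (by norm_num)).1 hy
  obtain ⟨b, hb, rfl⟩ := (Nat.dvd_prime_pow (by norm_num)).1 hz
  obtain ⟨c, hc', rfl⟩ := (Nat.dvd_prime_pow (by norm_num)).1 hw
  have ha' : a ≠ 16 := by
    rintro rfl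
    exact h3 ((Dvd.intro _ rfl : 3 ^ 16 ∣ 3 ^ 16 * 5 ^ b).mul_right _)
  have hb' : b ≠ 2 := by
    rintro rfl
    exact h5 ((Dvd.intro_left _ rfl : 5 ^ 2 ∣ 3 ^ a * 5 ^ 2).mul_right _)
  have hc'' : c ≠ 3 := fun h => h7 (h ▸ Dvd.intro_left _ rfl)
  clear h1 h2 h3 h5 h7 h11 h13 h17 h29 hc h hy' hy hz hw
  interval_cases a <;> interval_cases b <;> interval_cases c <;> (clear * - h23 k17 k29; omega)

/-! ### the prime 11 for `Fi₂₂` -/

theorem et_ten {e t : ℕ} (h : e * t = 10) (he : Odd e) (h1 : 1 < e) : e = 5 ∧ t = 2 := by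
  have h2 : e ≤ 10 := Nat.le_of_dvd (by norm_num) ⟨t, h.symm⟩
  interval_cases e <;> first | (clear * - h; omega) | exact absurd he (by decide)

theorem et_22 {e t : ℕ} (h : e * t = 22) (he : Odd e) (h1 : 1 < e) : e = 11 ∧ t = 2 := by
  have h2 : e ≤ 22 := Nat.le_of_dvd (by norm_num) ⟨t, h.symm⟩
  interval_cases e <;> first | (clear * - h; omega) | exact absurd he (by decide)

/-- a small value of an odd function -/
theorem pm_one {v : ℤ} {n : ℕ} (ho : Odd v) (h : 2 * v ^ 2 + 1 ≤ (n : ℤ)) (hn : n ≤ 18) : v = 1 ∨ v = -1 := by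
  have h1 : -3 < v := by nlinarith
  have h2 : v < 3 := by nlinarith only [h, hn]
  obtain ⟨k, hk⟩ := ho
  omega

open Cfsg.Agent.H702.RealTable in
theorem b22 : Cfsg.Agent.H702.RealB0.HasReal 11 Cfsg.Spor.Fi22 := by
  have hfin := Fi22.finite_fi22
  have hp : Fact (Nat.Prime 11) := ⟨by norm_num⟩
  have hs : IsSimpleGroup Cfsg.Spor.Fi22 := Cfsg.Agent.R01.Fi22Facts.isSimple
  have hna : ¬ IsMulCommutative Cfsg.Spor.Fi22 := by
    intro hc
    apply Fi22.ba_ne
    have h1 : Cfsg.Agent.Fischer.Fi22PtsRep.gen .a * Cfsg.Agent.Fischer.Fi22PtsRep.gen .b *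
        Cfsg.Agent.Fischer.Fi22PtsRep.gen .a = Cfsg.Agent.Fischer.Fi22PtsRep.gen .b *
        Cfsg.Agent.Fischer.Fi22PtsRep.gen .a * Cfsg.Agent.Fischer.Fi22PtsRep.gen .b :=
      Cfsg.Agent.H661.Spor.Fi22.rel.braid 0 (by norm_num)
    rw [hc.is_comm.comm (Cfsg.Agent.Fischer.Fi22PtsRep.gen .a) (Cfsg.Agent.Fischer.Fi22PtsRep.gen .b)] at h1
    have h2 := mul_left_cancel h1
    rw [← h2]
    have h3 : Cfsg.Agent.Fischer.Fi22PtsRep.gen .a * Cfsg.Agent.Fischer.Fi22PtsRep.gen .a = 1 :=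
      Cfsg.Agent.H661.Spor.Fi22.rel.sq 0 (by norm_num)
    exact h3
  by_contra hno
  obtain ⟨E⟩ := exists_exc (by norm_num) hna (by rw [Fi22.card]; norm_num) (by rw [Fi22.card]; norm_num) hno
  obtain ⟨he, ht⟩ := et_ten E.het E.odd_e E.one_lt_e
  -- the degree
  obtain ⟨x, hx⟩ := Int.eq_ofNat_of_zero_le E.v_one_pos.le
  have hxd : x ∣ 64561751654400 := by
    have := E.v_one_dvd
    rw [hx, Fi22.card] at this
    exact_mod_cast this
  have hreal : ∀ {q : ℕ}, q.Prime → q ≠ 11 → HasReal q Cfsg.Spor.Fi22 → ∀ n : ℕ, q ^ n ∣ 64561751654400 →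
      ¬ q ^ (n + 1) ∣ 64561751654400 → ¬ q ^ n ∣ x := by
    intro q hq hq11 h n hn hn' hd
    obtain ⟨g, hg, hr⟩ := h.isConj
    refine E.not_pow_dvd hq (by rwa [Fi22.card]) (by rwa [Fi22.card]) (g := g) ?_ (by rw [hg]) hr ?_
    · rw [hg]
      intro h
      exact hq11 ((Nat.prime_dvd_prime_iff_eq (by norm_num) hq).1 h).symm
    · rw [hx]
      exact_mod_cast hd
  have hodd : ¬ 2 ∣ x := by
    have h1 := E.odd_v_one
    rw [hx] at h1
    intro h2
    rw [Int.odd_iff] at h1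
    omega
  have hmod : x % 11 = 5 ∨ x % 11 = 6 := by
    have h1 := E.dvd_sub
    rw [hx] at h1
    rcases E.B.d_eq with h | h <;> rw [h, he] at h1 <;> push_cast at h1 <;> (clear * - h1; omega)
  have hx4 := arith22 hxd hodd (hreal (by norm_num) (by norm_num) Fi22.real3 9 (by norm_num) (by norm_num))
    (hreal (by norm_num) (by norm_num) Fi22.real5 2 (by norm_num) (by norm_num))
    (by have := hreal (by norm_num) (by norm_num) Fi22.real7 1 (by norm_num) (by norm_num); rwa [pow_one] at this)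
    (by have := hreal (by norm_num) (by norm_num) Fi22.real13 1 (by norm_num) (by norm_num); rwa [pow_one] at this) hmod
  -- order 13
  have h27 : x = 27 := by
    obtain ⟨g, hg, hr⟩ := Fi22.real13.isConj
    have hg11 : ¬ 11 ∣ orderOf g := by rw [hg]; norm_num
    have h1 := E.col hg11
    rw [Cfsg.Agent.H713.Spor.Fi22.cent_13 (MulEquiv.refl Cfsg.Spor.Fi22) hg, ht] at h1
    have h2 := pm_one (E.odd_v g hg11 hr) (by exact_mod_cast h1) (by norm_num)
    have h3 := E.congr_one (s := 13) (by norm_num) (by norm_num) (a := g) ⟨1, by rw [hg, pow_one]⟩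
    rw [hx] at h3
    rcases hx4 with rfl | rfl | rfl | rfl <;> rcases h2 with h | h <;> rw [h] at h3 <;> first | rfl | omega
  subst h27
  -- the transposition
  obtain ⟨y, d, hy, hd, hyd, hc, hr, hi⟩ := Fi22.exists_pair
  have hd11 : ¬ 11 ∣ orderOf d := by rw [hd]; norm_num
  have hyo : orderOf (y * d) = 14 := by
    have := (show Commute y d from hyd).orderOf_mul_eq_mul_orderOf_of_coprime (by rw [hy, hd]; norm_num)
    rw [this, hy, hd]
  have hyd11 : ¬ 11 ∣ orderOf (y * d) := by rw [hyo]; norm_num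
  have h1 := E.col hyd11
  rw [hc, ht] at h1
  have h2 := pm_one (E.odd_v _ hyd11 hr) (by exact_mod_cast h1) (by norm_num)
  have h3 := E.congr (s := 7) (by norm_num) (show Commute y d from hyd) ⟨1, by rw [hy, pow_one]⟩
    (by rw [hd]; norm_num) hyd11 hd11
  -- modulo 11
  have h4 : ((11 : ℕ) : ℤ) ∣ E.v d - E.v 1 := by
    -- a conjugate of `d` centralizes the Sylow subgroup
    obtain ⟨z, hz⟩ := exists_prime_orderOf_dvd_card' (G := E.P) 11 (by rw [E.card_P])
    have hz' : orderOf (z : Cfsg.Spor.Fi22) = 11 := by rw [Subgroup.orderOf_coe, hz]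
    obtain ⟨c, hc'⟩ := hi z hz'
    have hPz : E.P = zpowers (z : Cfsg.Spor.Fi22) := by
      symm
      apply Subgroup.eq_of_le_of_card_ge
      · rw [zpowers_le]; exact z.2
      · rw [Nat.card_zpowers, hz', E.card_P]
    have hconj : IsConj d (c * d * c⁻¹) := isConj_iff.2 ⟨c, rfl⟩
    rw [E.v_conj hd11 hconj]
    refine congr_P E ?_ ?_
    · have h8 : orderOf (c * d * c⁻¹) = orderOf d := (MulAut.conj c).orderOf_eq d
      rw [h8]; exact hd11
    · rw [hPz, Cfsg.Agent.H843.Cyc.mem_centralizer_zpowers]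
      exact hc'
  have h5 := E.odd_v d hd11 (by
    rw [isConj_iff]
    refine ⟨1, ?_⟩
    rw [one_mul, inv_one, mul_one]
    have h6 : d ^ 2 = 1 := by rw [← hd, pow_orderOf_eq_one]
    exact eq_inv_of_mul_eq_one_left (by rw [← pow_two, h6]))
  have h6 := abs_le E hd11
  have h7 := ne_one E hd11 (by rintro rfl; rw [orderOf_one] at hd; norm_num at hd)
  rw [hx] at h4 h6 h7
  rw [_root_.abs_le] at h6
  obtain ⟨k, hk⟩ := h5
  rcases h2 with h | h <;> rw [h] at h3 <;> (clear * - h3 h4 h6 hk h7; omega)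

/-! ### the prime 23 for `Fi₂₄'` -/

/-- a small value of an odd function -/
theorem pm_three {v : ℤ} {n : ℕ} (ho : Odd v) (h : 2 * v ^ 2 + 1 ≤ (n : ℤ)) (hn : n ≤ 50) :
    v = 1 ∨ v = -1 ∨ v = 3 ∨ v = -3 := by
  have h1 : -5 < v := by nlinarith
  have h2 : v < 5 := by nlinarith only [h, hn]
  obtain ⟨k, hk⟩ := ho
  omega

/-- all subgroups of order `q` are conjugate, if `q` divides the order once -/
theorem card_cent_eq {G : Type*} [Group G] [Finite G] {q : ℕ} [hq : Fact q.Prime] {x y : G} (hx : orderOf x = q)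
    (hy : orderOf y = q) (h2 : ¬ q ^ 2 ∣ Nat.card G) :
    Nat.card (centralizer ({x} : Set G)) = Nat.card (centralizer ({y} : Set G)) := by
  have hd : q ∣ Nat.card G := by rw [← hx]; exact _root_.orderOf_dvd_natCard x
  have hf : (Nat.card G).factorization q = 1 := by
    have h3 : 1 ≤ (Nat.card G).factorization q := by
      rw [← Nat.Prime.pow_dvd_iff_le_factorization hq.out Nat.card_pos.ne', pow_one]
      exact hd
    have h4 : ¬ 2 ≤ (Nat.card G).factorization q := by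
      rw [← Nat.Prime.pow_dvd_iff_le_factorization hq.out Nat.card_pos.ne']
      exact h2
    omega
  let P : Sylow q G := Sylow.ofCard (zpowers x) (by rw [Nat.card_zpowers, hx, hf, pow_one])
  let Q : Sylow q G := Sylow.ofCard (zpowers y) (by rw [Nat.card_zpowers, hy, hf, pow_one])
  obtain ⟨g, hg⟩ := MulAction.exists_smul_eq G P Q
  have hg' : (zpowers x).map (MulAut.conj g).toMonoidHom = zpowers y := by
    have h3 := congrArg (fun R : Sylow q G => (R : Subgroup G)) hg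
    exact h3
  rw [MonoidHom.map_zpowers] at hg'
  have hg2 : zpowers (g * x * g⁻¹) = zpowers y := hg'
  have h3 := Cfsg.Agent.SmallSimple.ClassDvd.card_centralizer_conj (isConj_iff.2 ⟨g, rfl⟩ : IsConj x (g * x * g⁻¹))
  rw [h3, ← Cfsg.Agent.H843.Cyc.centralizer_zpowers, hg2, Cfsg.Agent.H843.Cyc.centralizer_zpowers]

theorem b24 : Cfsg.Agent.H702.RealB0.HasReal 23 Cfsg.Spor.Fi24' := by
  have hfin := Fi24.finite
  have hp : Fact (Nat.Prime 23) := ⟨by norm_num⟩
  have hs : IsSimpleGroup Cfsg.Spor.Fi24' := Cfsg.Agent.R08.FiTwentyFour.isFi24'.1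
  have hcard : Nat.card Cfsg.Spor.Fi24' = 1255205709190661721292800 := Cfsg.Agent.H30.IMFi24.card_F
  have hna : ¬ IsMulCommutative Cfsg.Spor.Fi24' := by
    intro hc
    obtain ⟨x, t, hx, -, -, -, hinv⟩ := Cfsg.Agent.H30.IMFi24.exists_x
    rw [hc.is_comm.comm t x, mul_inv_cancel_right] at hinv
    have h2 : x ^ 2 = 1 := by
      rw [pow_two]
      nth_rewrite 2 [hinv]
      exact mul_inv_cancel x
    have h3 := orderOf_dvd_of_pow_eq_one h2
    rw [hx] at h3
    norm_num at h3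
  by_contra hno
  obtain ⟨E⟩ := exists_exc (by norm_num) hna (by rw [hcard]; norm_num) (by rw [hcard]; norm_num) hno
  obtain ⟨he, ht⟩ := et_22 E.het E.odd_e E.one_lt_e
  -- the degree
  obtain ⟨x, hx⟩ := Int.eq_ofNat_of_zero_le E.v_one_pos.le
  have hxd : x ∣ 1255205709190661721292800 := by
    have := E.v_one_dvd
    rw [hx, hcard] at this
    exact_mod_cast this
  have hreal : ∀ {q : ℕ}, q.Prime → q ≠ 23 → HasReal q Cfsg.Spor.Fi24' → ∀ n : ℕ, q ^ n ∣ 1255205709190661721292800 →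
      ¬ q ^ (n + 1) ∣ 1255205709190661721292800 → ¬ q ^ n ∣ x := by
    intro q hq hq11 h n hn hn' hd
    obtain ⟨g, hg, hr⟩ := h.isConj
    refine E.not_pow_dvd hq (by rwa [hcard]) (by rwa [hcard]) (g := g) ?_ (by rw [hg]) hr ?_
    · rw [hg]
      intro h
      exact hq11 ((Nat.prime_dvd_prime_iff_eq (by norm_num) hq).1 h).symm
    · rw [hx]
      exact_mod_cast hd
  have hodd : ¬ 2 ∣ x := by
    have h1 := E.odd_v_one
    rw [hx] at h1
    intro h2
    rw [Int.odd_iff] at h1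
    omega
  have hmod : x % 23 = 11 ∨ x % 23 = 12 := by
    have h1 := E.dvd_sub
    rw [hx] at h1
    rcases E.B.d_eq with h | h <;> rw [h, he] at h1 <;> push_cast at h1 <;> (clear * - h1; omega)
  have r3 : HasReal 3 Cfsg.Spor.Fi24' := Fi24.of_fi23 (Fi23.of_fi22 (by norm_num) (by norm_num) Fi22.real3)
  have r5 : HasReal 5 Cfsg.Spor.Fi24' := Fi24.of_fi23 (Fi23.of_fi22 (by norm_num) (by norm_num) Fi22.real5)
  have r7 : HasReal 7 Cfsg.Spor.Fi24' := Fi24.of_fi23 (Fi23.of_fi22 (by norm_num) (by norm_num) Fi22.real7)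
  have r13 : HasReal 13 Cfsg.Spor.Fi24' := Fi24.of_fi23 (Fi23.of_fi22 (by norm_num) (by norm_num) Fi22.real13)
  have r11 : HasReal 11 Cfsg.Spor.Fi24' := Fi24.of_fi23 Fi24.real11
  have r17 : HasReal 17 Cfsg.Spor.Fi24' := Fi24.of_fi23 Fi23.real17
  refine arith24 hxd hodd (hreal (by norm_num) (by norm_num) r3 16 (by norm_num) (by norm_num))
    (hreal (by norm_num) (by norm_num) r5 2 (by norm_num) (by norm_num))
    (hreal (by norm_num) (by norm_num) r7 3 (by norm_num) (by norm_num))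
    (by have := hreal (by norm_num) (by norm_num) r11 1 (by norm_num) (by norm_num); rwa [pow_one] at this)
    (by have := hreal (by norm_num) (by norm_num) r13 1 (by norm_num) (by norm_num); rwa [pow_one] at this)
    (by have := hreal (by norm_num) (by norm_num) r17 1 (by norm_num) (by norm_num); rwa [pow_one] at this)
    (by have := hreal (by norm_num) (by norm_num) Fi24.real29 1 (by norm_num) (by norm_num); rwa [pow_one] at this)
    hmod ?_ ?_
  · -- order 17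
    have h17 : Fact (Nat.Prime 17) := ⟨by norm_num⟩
    obtain ⟨g, hg, hr⟩ := r17.isConj
    obtain ⟨y, hy, hyc⟩ := Fi24.cent17
    have hg11 : ¬ 23 ∣ orderOf g := by rw [hg]; norm_num
    have h1 := E.col hg11
    rw [card_cent_eq hg hy (by rw [hcard]; norm_num), hyc, ht] at h1
    have h2 := pm_one (E.odd_v g hg11 hr) (by exact_mod_cast h1) (by norm_num)
    have h3 := E.congr_one (s := 17) (by norm_num) (by norm_num) (a := g) ⟨1, by rw [hg, pow_one]⟩
    rw [hx] at h3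
    rcases h2 with h | h <;> rw [h] at h3 <;> (clear * - h3; omega)
  · -- order 29
    have h29 : Fact (Nat.Prime 29) := ⟨by norm_num⟩
    obtain ⟨g, t, hg, hc, -, -, hinv⟩ := Cfsg.Agent.H30.IMFi24.exists_x
    have hg11 : ¬ 23 ∣ orderOf g := by rw [hg]; norm_num
    have h1 := E.col hg11
    rw [hc, ht] at h1
    have h2 := pm_three (E.odd_v g hg11 (isConj_iff.2 ⟨t, hinv⟩)) (by exact_mod_cast h1) (by norm_num)
    have h3 := E.congr_one (s := 29) (by norm_num) (by norm_num) (a := g) ⟨1, by rw [hg, pow_one]⟩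
    rw [hx] at h3
    rcases h2 with h | h | h | h <;> rw [h] at h3 <;> (clear * - h3; omega)

/-! ### the rows -/

theorem prime_cases {p n : ℕ} (hp : p.Prime) (hd : p ∣ n) (l : List ℕ) (hl : ∀ q ∈ l, q.Prime)
    (h : n ∣ (l.map fun q => q ^ 30).prod) : p ∈ l := by
  have h1 := hd.trans h
  rw [hp.prime.dvd_prod_iff] at h1
  obtain ⟨a, ha, h2⟩ := h1
  obtain ⟨q, hq, rfl⟩ := List.mem_map.1 ha
  have h3 := hp.dvd_of_dvd_pow h2
  rwa [(Nat.prime_dvd_prime_iff_eq hp (hl q hq)).1 h3]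

/-- **The row `Fi₂₂`.** -/
theorem fi22 {p : ℕ} [hp : Fact p.Prime] (hp2 : p ≠ 2) {X : Type} [Group X] [Finite X] (hd : p ∣ Nat.card X)
    (h : Spor.IsoFi22 X) : Cfsg.Agent.H702.RealB0.HasReal p X := by
  obtain ⟨e⟩ := h
  have := Fi22.finite_fi22
  rw [Nat.card_congr e.toEquiv, Fi22.card] at hd
  refine H702.RealB0.HasReal.congr e.symm ?_
  have h1 := prime_cases hp.out hd [2, 3, 5, 7, 11, 13] (by intro q hq; fin_cases hq <;> norm_num) (by norm_num)
  simp only [List.mem_cons, List.not_mem_nil, or_false] at h1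
  rcases h1 with rfl | rfl | rfl | rfl | rfl | rfl
  · exact absurd rfl hp2
  · exact t1 Fi22.real3
  · exact t1 Fi22.real5
  · exact t1 Fi22.real7
  · exact b22
  · exact t1 Fi22.real13

/-- **The row `Fi₂₃`.** -/
theorem fi23 {p : ℕ} [hp : Fact p.Prime] (hp2 : p ≠ 2) {X : Type} [Group X] [Finite X] (hd : p ∣ Nat.card X)
    (h : Spor.IsoFi23 X) : Cfsg.Agent.H702.RealB0.HasReal p X := by
  obtain ⟨e⟩ := h
  have := Fi23.finite
  rw [Nat.card_congr e.toEquiv, Fi23.card] at hd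
  refine H702.RealB0.HasReal.congr e.symm ?_
  have h1 := prime_cases hp.out hd [2, 3, 5, 7, 11, 13, 17, 23] (by intro q hq; fin_cases hq <;> norm_num) (by norm_num)
  simp only [List.mem_cons, List.not_mem_nil, or_false] at h1
  rcases h1 with rfl | rfl | rfl | rfl | rfl | rfl | rfl | rfl
  · exact absurd rfl hp2
  · exact t1 (Fi23.of_fi22 (by norm_num) (by norm_num) Fi22.real3)
  · exact t1 (Fi23.of_fi22 (by norm_num) (by norm_num) Fi22.real5)
  · exact t1 (Fi23.of_fi22 (by norm_num) (by norm_num) Fi22.real7)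
  · exact t1 Fi24.real11
  · exact t1 (Fi23.of_fi22 (by norm_num) (by norm_num) Fi22.real13)
  · exact t1 Fi23.real17
  · exact Fi23.b23

/-- **The row `Fi₂₄'`.** -/
theorem fi24 {p : ℕ} [hp : Fact p.Prime] (hp2 : p ≠ 2) {X : Type} [Group X] [Finite X] (hd : p ∣ Nat.card X)
    (h : Spor.IsoFi24' X) : Cfsg.Agent.H702.RealB0.HasReal p X := by
  obtain ⟨e⟩ := h
  have := Fi24.finite
  have hcard : Nat.card Cfsg.Spor.Fi24' = 1255205709190661721292800 := Cfsg.Agent.H30.IMFi24.card_F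
  rw [Nat.card_congr e.toEquiv, hcard] at hd
  refine H702.RealB0.HasReal.congr e.symm ?_
  have h1 := prime_cases hp.out hd [2, 3, 5, 7, 11, 13, 17, 23, 29] (by intro q hq; fin_cases hq <;> norm_num)
    (by norm_num)
  simp only [List.mem_cons, List.not_mem_nil, or_false] at h1
  rcases h1 with rfl | rfl | rfl | rfl | rfl | rfl | rfl | rfl | rfl
  · exact absurd rfl hp2
  · exact t1 (Fi24.of_fi23 (Fi23.of_fi22 (by norm_num) (by norm_num) Fi22.real3))
  · exact t1 (Fi24.of_fi23 (Fi23.of_fi22 (by norm_num) (by norm_num) Fi22.real5))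
  · exact t1 (Fi24.of_fi23 (Fi23.of_fi22 (by norm_num) (by norm_num) Fi22.real7))
  · exact t1 (Fi24.of_fi23 Fi24.real11)
  · exact t1 (Fi24.of_fi23 (Fi23.of_fi22 (by norm_num) (by norm_num) Fi22.real13))
  · exact t1 (Fi24.of_fi23 Fi23.real17)
  · exact b24
  · exact t1 Fi24.real29

end Cfsg.Agent.H30.RealFi
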